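import Groth.Agent.GrpdLib.BaseChange
import Mathlib.AlgebraicGeometry.Pullbacks
import Mathlib.AlgebraicGeometry.Morphisms.Flat

/-!
# Tensor products from cartesian squares of affine schemes
-/

set_option autoImplicit false
set_option backward.isDefEq.respectTransparency false
set_option backward.isDefEq.respectTransparency.types false

universe u

open CategoryTheory CategoryTheory.Limits AlgebraicGeometry TensorProduct

namespace Groth.Agent.Stk19b.GrpdEt

variable {C A D T : Type u} [CommRing C] [CommRing A] [CommRing D] [CommRing T] [Algebra C A] [Algebra C D]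

/-- A cartesian square of spectra identifies the tensor product. -/
theorem liftRing_bijective (φ : A →+* T) (ψ : D →+* T)
    (hw : φ.comp (algebraMap C A) = ψ.comp (algebraMap C D))
    (sq : IsPullback (Spec.map (CommRingCat.ofHom ψ)) (Spec.map (CommRingCat.ofHom φ))
      (Spec.map (CommRingCat.ofHom (algebraMap C D))) (Spec.map (CommRingCat.ofHom (algebraMap C A)))) :
    Function.Bijective (GrpdLib.liftRing ψ φ hw) := by
  let e : Spec (CommRingCat.of T) ≅ Spec (CommRingCat.of (D ⊗[C] A)) :=
    sq.isoPullback ≪≫ pullbackSpecIso C D A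
  have he : Spec.map (CommRingCat.ofHom (GrpdLib.liftRing ψ φ hw)) = e.hom := by
    rw [← cancel_mono (pullbackSpecIso C D A).inv]
    simp only [e, Iso.trans_hom, Category.assoc, Iso.hom_inv_id, Category.comp_id]
    apply pullback.hom_ext
    · rw [Category.assoc, pullbackSpecIso_inv_fst, IsPullback.isoPullback_hom_fst, ← Spec.map_comp]
      refine congrArg (fun g => Spec.map (CommRingCat.ofHom g)) (RingHom.ext fun d => ?_)
      exact (GrpdLib.liftRing_tmul ψ φ hw d 1).trans (by rw [map_one, mul_one])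
    · rw [Category.assoc, pullbackSpecIso_inv_snd, IsPullback.isoPullback_hom_snd, ← Spec.map_comp]
      refine congrArg (fun g => Spec.map (CommRingCat.ofHom g)) (RingHom.ext fun a => ?_)
      exact (GrpdLib.liftRing_tmul ψ φ hw 1 a).trans (by rw [map_one, one_mul])
  have : IsIso (Spec.map (CommRingCat.ofHom (GrpdLib.liftRing ψ φ hw))) := by rw [he]; infer_instance
  have : IsIso (CommRingCat.ofHom (GrpdLib.liftRing ψ φ hw)) := by
    have : IsIso (Scheme.Spec.map (CommRingCat.ofHom (GrpdLib.liftRing ψ φ hw)).op) := this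
    have := isIso_of_fully_faithful Scheme.Spec (CommRingCat.ofHom (GrpdLib.liftRing ψ φ hw)).op
    exact isIso_of_op _
  exact ConcreteCategory.bijective_of_isIso (CommRingCat.ofHom (GrpdLib.liftRing ψ φ hw))

/-- The base change of an exact pair of ring maps to the tensor products of cartesian squares. -/
theorem invariants_of_tensor {A B : Type u} [CommRing A] [CommRing B] (G : GrpdLib.RingGrpd A B) [Algebra G.invariants D]
    [Module.Flat G.invariants D] {A' B' : Type u} [CommRing A'] [CommRing B'] (φ : A →+* A') (ψ : D →+* A')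
    (φB : G.SB →+* B') (s t : A' →+* B')
    (hw : φ.comp (algebraMap G.invariants A) = ψ.comp (algebraMap G.invariants D))
    (hwB : φB.comp (algebraMap G.invariants G.SB) = (s.comp ψ).comp (algebraMap G.invariants D))
    (hα : Function.Bijective (GrpdLib.liftRing ψ φ hw))
    (hβ : Function.Bijective (GrpdLib.liftRing (s.comp ψ) φB hwB))
    (hst : s.comp ψ = t.comp ψ) (hs : ∀ a, s (φ a) = φB (G.sAlg a)) (ht : ∀ a, t (φ a) = φB (G.tAlg a)) :
    Function.Injective ψ ∧ ∀ x : A', s x = t x ↔ x ∈ ψ.range := by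
  set α := GrpdLib.liftRing ψ φ hw with hαdef
  set β := GrpdLib.liftRing (s.comp ψ) φB hwB with hβdef
  have hα1 : ∀ d : D, α (d ⊗ₜ[G.invariants] (1 : A)) = ψ d := fun d =>
    (GrpdLib.liftRing_tmul ψ φ hw d 1).trans (by rw [map_one, mul_one])
  have key : ∀ (u : A' →+* B') (uAlg : A →ₐ[G.invariants] G.SB), u.comp ψ = s.comp ψ →
      (∀ a, u (φ a) = φB (uAlg a)) → ∀ z : G.BA D, u (α z) = β (G.bmap D uAlg z) := by
    intro u uAlg h1 h2
    refine RingHom.congr_fun (f := u.comp α) (g := β.comp (G.bmap D uAlg))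
      (GrpdLib.tensor_ringHom_ext (fun d => ?_) fun a => ?_)
    · show u (α (d ⊗ₜ 1)) = β (G.bmap D uAlg (d ⊗ₜ 1))
      rw [hα1, G.bmap_tmul, map_one uAlg, hβdef, GrpdLib.liftRing_tmul, map_one, mul_one]
      exact RingHom.congr_fun h1 d
    · show u (α ((1 : D) ⊗ₜ a)) = β (G.bmap D uAlg ((1 : D) ⊗ₜ a))
      rw [G.bmap_tmul, hαdef, GrpdLib.liftRing_tmul, hβdef, GrpdLib.liftRing_tmul, map_one, map_one, one_mul,
        one_mul, h2]
  refine ⟨fun d d' h => G.injective_tmul_one D (hα.1 ?_), fun x => ⟨fun hx => ?_, ?_⟩⟩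
  · exact (hα1 d).trans (h.trans (hα1 d').symm)
  · obtain ⟨z, rfl⟩ := hα.2 x
    have hz : z ∈ (G.baseChange D).invariants := by
      refine hβ.1 ?_
      exact ((key s G.sAlg rfl hs z).symm.trans hx).trans (key t G.tAlg hst.symm ht z)
    obtain ⟨d, hd⟩ := (G.mem_invariants_baseChange_iff D z).1 hz
    exact ⟨d, by rw [← hd, hα1]⟩
  · rintro ⟨d, rfl⟩
    exact RingHom.congr_fun hst d

end Groth.Agent.Stk19b.GrpdEt
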