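import Groth.Agent.Stk19b.GrpdEt.Descent
import Groth.Agent.Stk19b.GrpdEt.Tensor
import Groth.Agent.S0783
import Groth.Agent.S0593

/-!
# Étale morphisms of groupoids preserving stabilizers induce étale maps of quotients
-/

set_option autoImplicit false
set_option backward.isDefEq.respectTransparency false
set_option backward.isDefEq.respectTransparency.types false

universe u

open CategoryTheory CategoryTheory.Limits AlgebraicGeometry

namespace Groth.Agent.Stk19b.GrpdEt

theorem affine_map_eq {X : Scheme.{u}} [IsAffine X] {R : CommRingCat.{u}} (q : X ⟶ Spec R) :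
    q = X.isoSpec.hom ≫ Spec.map (Spec.preimage (X.isoSpec.inv ≫ q)) := by
  rw [Spec.map_preimage, Iso.hom_inv_id_assoc]

variable {S : Scheme.{u}} {G' G : Grpd.GroupoidScheme S} (f : Grpd.GroupoidScheme.Hom G' G) [IsAffine G.U]
  [IsAffine G.R] [IsAffine G'.U] [IsAffine G'.R] [IsFinite G.s] [Flat G.s] [LocallyOfFinitePresentation G.s]
  [IsFinite G.t] [Flat G.t] [LocallyOfFinitePresentation G.t] [Etale f.fU]

/-- An affine etale scheme over the quotient whose pullback is the source objects, compatibly with the arrows. -/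
theorem exists_model (hs : IsPullback f.fR G'.s G.s f.fU) (hstab : StabCart f) :
    ∃ (D : Type u) (_ : CommRing D) (δ : G.invariants →+* D) (q : G'.U ⟶ Spec (CommRingCat.of D)),
      Etale (Spec.map (CommRingCat.ofHom δ)) ∧
        IsPullback f.fU q G.toQuot (Spec.map (CommRingCat.ofHom δ)) ∧ G'.s ≫ q = G'.t ≫ q := by
  obtain ⟨Φ, hΦ₁, hΦ₂⟩ := exists_transport f hs hstab
  let D₀ := descentDatum Φ hΦ₁ hΦ₂ hs
  haveI : Surjective G.toQuot := ⟨(GrpdLib.toQuot_surjective_and_fibres G).1.1⟩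
  haveI : IsIntegralHom G.toQuot := GrpdLib.isIntegralHom_toQuot G
  haveI : Etale D₀.obj.hom := ‹Etale f.fU›
  haveI : IsAffineHom f.fU := inferInstance
  haveI : QuasiCompact D₀.obj.hom := inferInstanceAs (QuasiCompact f.fU)
  haveI : IsSeparated D₀.obj.hom := inferInstanceAs (IsSeparated f.fU)
  obtain ⟨U₀, _, _, hU₀, ⟨iso⟩⟩ := Groth.Agent.S0783.result G.toQuot D₀
  let θ : pullback G.toQuot U₀.hom ⟶ G'.U := iso.hom.hom.left
  let θ' : G'.U ⟶ pullback G.toQuot U₀.hom := iso.inv.hom.left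
  have hθθ' : θ ≫ θ' = 𝟙 _ := congrArg (fun h => h.hom.left) iso.hom_inv_id
  have hθ'θ : θ' ≫ θ = 𝟙 _ := congrArg (fun h => h.hom.left) iso.inv_hom_id
  have hθ : θ ≫ f.fU = pullback.fst G.toQuot U₀.hom := Over.w iso.hom.hom
  have hθ' : θ' ≫ pullback.fst G.toQuot U₀.hom = f.fU := Over.w iso.inv.hom
  let e : G'.U ≅ pullback G.toQuot U₀.hom := ⟨θ', θ, hθ'θ, hθθ'⟩
  let q₀ : G'.U ⟶ U₀.left := θ' ≫ pullback.snd _ _
  have sq : IsPullback f.fU q₀ G.toQuot U₀.hom :=
    (IsPullback.of_hasPullback G.toQuot U₀.hom).of_iso e.symm (Iso.refl _) (Iso.refl _) (Iso.refl _)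
      (by simp [e, hθ]) (by simp [e, q₀, reassoc_of% hθθ']) (by simp) (by simp)
  have hinv : G'.s ≫ q₀ = G'.t ≫ q₀ := by
    let x₀ := f.fR ≫ G.s
    let x₁ := f.fR ≫ G.t
    have h : x₀ ≫ G.toQuot = x₁ ≫ G.toQuot := by simp only [x₀, x₁, Category.assoc, GrpdLib.t_toQuot]
    have hv : (G'.s ≫ θ') ≫ pullback.fst G.toQuot U₀.hom = x₀ := by
      simp only [x₀, Category.assoc, hθ', f.comm_s]
    have key := iso.hom.comm x₀ x₁ h ⟨G'.s ≫ θ', hv⟩ ⟨G'.s, f.comm_s.symm⟩
      (by show G'.s = (G'.s ≫ θ') ≫ θ; rw [Category.assoc, hθ'θ, Category.comp_id])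
    have key' : G'.t = pullback.lift x₁ ((G'.s ≫ θ') ≫ pullback.snd G.toQuot U₀.hom)
        (by simpa only [Category.assoc, pullback.condition] using ((congrArg (· ≫ G.toQuot) hv).trans h).symm) ≫ θ := by
      refine (Eq.trans ?_ key)
      exact ((push_eq Φ hΦ₂ (𝟙 G'.R) h f.comm_s.symm (Category.id_comp _).symm
        (Category.id_comp _).symm).trans (Category.id_comp _)).symm
    conv_rhs => rw [key']
    simp only [q₀, Category.assoc, reassoc_of% hθθ', pullback.lift_snd]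
  haveI : UniversallyClosed q₀ := MorphismProperty.of_isPullback sq inferInstance
  haveI : Surjective q₀ := MorphismProperty.of_isPullback sq inferInstance
  haveI : IsAffine U₀.left := Groth.Agent.S0593.result _ _ q₀
  let δ := Spec.preimage (U₀.left.isoSpec.inv ≫ U₀.hom)
  have hδ : Spec.map δ = U₀.left.isoSpec.inv ≫ U₀.hom := Spec.map_preimage _
  refine ⟨Γ(U₀.left, ⊤), inferInstance, δ.hom, q₀ ≫ U₀.left.isoSpec.hom, ?_, ?_, by rw [reassoc_of% hinv]⟩
  · rw [CommRingCat.ofHom_hom, hδ]; infer_instance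
  · rw [CommRingCat.ofHom_hom, hδ]
    exact sq.of_iso (Iso.refl _) (Iso.refl _) U₀.left.isoSpec (Iso.refl _)
      (by simp) (by simp) (by simp) (by simp)

/-- The induced map of quotients is étale with cartesian square. -/
theorem exists_quot (hs : IsPullback f.fR G'.s G.s f.fU) (hstab : StabCart f) :
    ∃ g : Spec (CommRingCat.of G'.invariants) ⟶ Spec (CommRingCat.of G.invariants),
      G'.toQuot ≫ g = f.fU ≫ G.toQuot ∧ Etale g ∧ IsPullback f.fU G'.toQuot G.toQuot g := by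
  obtain ⟨D, _, δ, q, hδ, sq, hinv⟩ := exists_model f hs hstab
  let G₀ := GrpdLib.ofScheme G
  letI : Algebra G₀.invariants D := RingHom.toAlgebra δ
  haveI : Flat (Spec.map (CommRingCat.ofHom δ)) := inferInstance
  haveI : Module.Flat G₀.invariants D :=
    (HasRingHomProperty.Spec_iff (P := @Flat)).1 ‹Flat (Spec.map (CommRingCat.ofHom δ))›
  let φ := f.fU.appTop.hom
  let φB : G₀.SB →+* Γ(G'.R, ⊤) := f.fR.appTop.hom
  let ψ := (Spec.preimage (G'.U.isoSpec.inv ≫ q)).hom
  have hq : q = G'.U.isoSpec.hom ≫ Spec.map (CommRingCat.ofHom ψ) := by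
    rw [CommRingCat.ofHom_hom]; exact affine_map_eq q
  have hnat : ∀ {X Y : Scheme.{u}} [IsAffine X] [IsAffine Y] (g : X ⟶ Y),
      g ≫ Y.isoSpec.hom = X.isoSpec.hom ≫ Spec.map g.appTop :=
    fun g => (Scheme.isoSpec_hom_naturality g).symm
  have hqq : ∀ u : G'.R ⟶ G'.U, u ≫ q = G'.R.isoSpec.hom ≫ Spec.map (CommRingCat.ofHom (u.appTop.hom.comp ψ)) := by
    intro u
    rw [hq, reassoc_of% (hnat u), ← Spec.map_comp]
    rfl
  have hst : G'.s.appTop.hom.comp ψ = G'.t.appTop.hom.comp ψ := by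
    have h := hinv
    rw [hqq, hqq, cancel_epi] at h
    exact congrArg CommRingCat.Hom.hom (Spec.map_injective h)
  have hπ : G.toQuot = G.U.isoSpec.hom ≫ Spec.map (CommRingCat.ofHom (algebraMap G₀.invariants Γ(G.U, ⊤))) := rfl
  have hπR : G.s ≫ G.toQuot =
      G.R.isoSpec.hom ≫ Spec.map (CommRingCat.ofHom (algebraMap G₀.invariants G₀.SB)) := by
    rw [hπ, reassoc_of% (hnat G.s), ← Spec.map_comp]
    rfl
  have sqA : IsPullback (Spec.map (CommRingCat.ofHom ψ)) (Spec.map (CommRingCat.ofHom φ))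
      (Spec.map (CommRingCat.ofHom (algebraMap G₀.invariants D)))
      (Spec.map (CommRingCat.ofHom (algebraMap G₀.invariants Γ(G.U, ⊤)))) :=
    sq.flip.of_iso G'.U.isoSpec (Iso.refl _) G.U.isoSpec (Iso.refl _)
      (by rw [← hq]; simp) (hnat f.fU) (by simp; rfl) (by rw [Iso.refl_hom, Category.comp_id]; exact hπ)
  have hw : φ.comp (algebraMap G₀.invariants Γ(G.U, ⊤)) = ψ.comp (algebraMap G₀.invariants D) := by
    have h := sqA.w
    rw [← Spec.map_comp, ← Spec.map_comp] at h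
    exact (congrArg CommRingCat.Hom.hom (Spec.map_injective h)).symm
  have sqB : IsPullback (Spec.map (CommRingCat.ofHom (G'.s.appTop.hom.comp ψ))) (Spec.map (CommRingCat.ofHom φB))
      (Spec.map (CommRingCat.ofHom (algebraMap G₀.invariants D)))
      (Spec.map (CommRingCat.ofHom (algebraMap G₀.invariants G₀.SB))) :=
    (hs.paste_vert sq).flip.of_iso G'.R.isoSpec (Iso.refl _) G.R.isoSpec (Iso.refl _)
      (by rw [Iso.refl_hom, Category.comp_id]; exact hqq G'.s) (hnat f.fR) (by simp; rfl)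
      (by rw [Iso.refl_hom, Category.comp_id]; exact hπR)
  have hwB : φB.comp (algebraMap G₀.invariants G₀.SB) =
      (G'.s.appTop.hom.comp ψ).comp (algebraMap G₀.invariants D) := by
    have h := sqB.w
    rw [← Spec.map_comp, ← Spec.map_comp] at h
    exact (congrArg CommRingCat.Hom.hom (Spec.map_injective h)).symm
  have hcomm : ∀ (u : G'.R ⟶ G'.U) (v : G.R ⟶ G.U), f.fR ≫ v = u ≫ f.fU → ∀ a,
      u.appTop.hom (φ a) = f.fR.appTop.hom (v.appTop.hom a) := by
    intro u v h a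
    show (f.fU.appTop ≫ u.appTop) a = (v.appTop ≫ f.fR.appTop) a
    rw [← Scheme.Hom.comp_appTop, ← Scheme.Hom.comp_appTop, h]
  obtain ⟨hinj, hmem⟩ := invariants_of_tensor G₀ φ ψ φB G'.s.appTop.hom G'.t.appTop.hom hw hwB
    (liftRing_bijective φ ψ hw sqA) (liftRing_bijective φB _ hwB sqB) hst
    (hcomm G'.s G.s f.comm_s) (hcomm G'.t G.t f.comm_t)
  let ψ' : D →+* G'.invariants := ψ.codRestrict G'.invariants fun d => (hmem _).2 ⟨d, rfl⟩
  have hψ' : Function.Bijective ψ' := ⟨fun a b h => hinj (congrArg Subtype.val h), fun x => by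
    obtain ⟨d, hd⟩ := (hmem x.1).1 x.2
    exact ⟨d, Subtype.ext hd⟩⟩
  let eD : Spec (CommRingCat.of G'.invariants) ≅ Spec (CommRingCat.of D) :=
    asIso (Spec.map (RingEquiv.ofBijective ψ' hψ').toCommRingCatIso.hom)
  have hqeD : G'.toQuot ≫ eD.hom = q := by
    rw [hq]
    show (G'.U.isoSpec.hom ≫ Spec.map _) ≫ Spec.map _ = _
    rw [Category.assoc, ← Spec.map_comp]
    rfl
  refine ⟨eD.hom ≫ Spec.map (CommRingCat.ofHom δ), ?_, inferInstance, ?_⟩
  · rw [reassoc_of% hqeD]; exact sq.w.symm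
  · exact sq.of_iso (Iso.refl _) (Iso.refl _) eD.symm (Iso.refl _) (by simp)
      (by rw [Iso.refl_hom, Category.id_comp, ← hqeD, Category.assoc, Iso.symm_hom, Iso.hom_inv_id,
        Category.comp_id])
      (by simp) (by simp)

theorem unique_quot (g g' : Spec (CommRingCat.of G'.invariants) ⟶ Spec (CommRingCat.of G.invariants))
    (h : G'.toQuot ≫ g = G'.toQuot ≫ g') : g = g' := by
  obtain ⟨a, rfl⟩ := Spec.map_surjective g
  obtain ⟨b, rfl⟩ := Spec.map_surjective g'
  change (G'.U.isoSpec.hom ≫ Spec.map _) ≫ Spec.map a = (G'.U.isoSpec.hom ≫ Spec.map _) ≫ Spec.map b at h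
  rw [Category.assoc, Category.assoc, cancel_epi, ← Spec.map_comp, ← Spec.map_comp] at h
  refine congrArg Spec.map (CommRingCat.hom_ext (RingHom.ext fun c => Subtype.ext ?_))
  exact RingHom.congr_fun (congrArg CommRingCat.Hom.hom (Spec.map_injective h)) c

end Groth.Agent.Stk19b.GrpdEt
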