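import Groth.Prelude.Def_Grpd
import Groth.Prelude.Def_Desc
import Groth.Agent.GrpdLib.AffineCoequalizer
import Groth.Agent.Desc19b.EtaleFull

/-!
# The descent datum of an étale morphism of groupoids preserving stabilizers
-/

set_option autoImplicit false
set_option backward.isDefEq.respectTransparency false
set_option backward.isDefEq.respectTransparency.types false

universe u

open CategoryTheory CategoryTheory.Limits AlgebraicGeometry
open Groth.Agent

namespace Groth.Agent.Stk19b.GrpdEt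

/-- Two lifts to an unramified scheme agreeing after a surjection are equal. -/
theorem eq_of_surjective_comp {X Y T T' : Scheme.{u}} (f : X ⟶ Y) [Etale f] (α β : T ⟶ X)
    (h : α ≫ f = β ≫ f) (w : T' ⟶ T) [Surjective w] (hw : w ≫ α = w ≫ β) : α = β := by
  let Δ := pullback.diagonal f
  let l : T ⟶ pullback f f := pullback.lift α β h
  let e := pullback.snd Δ l
  have : Surjective e := by
    let m : T' ⟶ pullback Δ l := pullback.lift (w ≫ α) w (by
      apply pullback.hom_ext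
      · simp [Δ, l]
      · simp [Δ, l, hw])
    have hm : m ≫ e = w := pullback.lift_snd _ _ _
    have : Surjective (m ≫ e) := by rw [hm]; infer_instance
    exact Surjective.of_comp m e
  have : IsIso e := (isIso_iff_isOpenImmersion_and_epi_base e).2
    ⟨inferInstance, (TopCat.epi_iff_surjective _).2 e.surjective⟩
  have h1 : pullback.fst Δ l = e ≫ α := by
    simpa [Δ, l, e] using congrArg (· ≫ pullback.fst f f) (pullback.condition (f := Δ) (g := l))
  have h2 : pullback.fst Δ l = e ≫ β := by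
    simpa [Δ, l, e] using congrArg (· ≫ pullback.snd f f) (pullback.condition (f := Δ) (g := l))
  rw [← cancel_epi e, ← h1, ← h2]

variable {S : Scheme.{u}} {G' G : Grpd.GroupoidScheme S} (f : Grpd.GroupoidScheme.Hom G' G)

theorem lift_congr' {G₀ : Grpd.GroupoidScheme S} {W : Scheme.{u}} {α α' β β' : W ⟶ G₀.R} (ha : α = α')
    (hb : β = β') (h : α ≫ G₀.s = β ≫ G₀.t) (h' : α' ≫ G₀.s = β' ≫ G₀.t) :
    pullback.lift α β h ≫ G₀.c = pullback.lift α' β' h' ≫ G₀.c := by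
  subst ha hb; rfl

/-- The hypothesis on stabilizers. -/
def StabCart : Prop :=
  ∃ g : G'.stabilizer ⟶ G.stabilizer, g ≫ pullback.fst G.j G.diag = pullback.fst G'.j G'.diag ≫ f.fR ∧
    IsPullback g G'.stabilizerToU G.stabilizerToU f.fU

theorem diag_fst : G.diag ≫ pullback.fst G.pU G.pU = 𝟙 G.U := pullback.lift_fst _ _ _

theorem diag_snd : G.diag ≫ pullback.snd G.pU G.pU = 𝟙 G.U := pullback.lift_snd _ _ _

theorem j_fst : G.j ≫ pullback.fst G.pU G.pU = G.t := pullback.lift_fst _ _ _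

theorem j_snd : G.j ≫ pullback.snd G.pU G.pU = G.s := pullback.lift_snd _ _ _

/-- Two arrows of the source groupoid with a common source, whose images have a common target, have a common
target. -/
theorem same_target (hs : IsPullback f.fR G'.s G.s f.fU) (hstab : StabCart f) {T : Scheme.{u}} (l₁ l₂ : T ⟶ G'.R)
    (hsrc : l₁ ≫ G'.s = l₂ ≫ G'.s) (htgt : l₁ ≫ f.fR ≫ G.t = l₂ ≫ f.fR ≫ G.t) : l₁ ≫ G'.t = l₂ ≫ G'.t := by
  obtain ⟨g, hg, hpb⟩ := hstab
  let a := l₁ ≫ f.fR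
  let b := l₂ ≫ f.fR
  have has : a ≫ G.s = b ≫ G.s := by simp only [a, b, Category.assoc, f.comm_s, reassoc_of% hsrc]
  have hat : a ≫ G.t = b ≫ G.t := by simpa only [a, b, Category.assoc] using htgt
  have h0 : (a ≫ G.i) ≫ G.s = b ≫ G.t := by rw [Category.assoc, G.i_s, hat]
  let γ : T ⟶ G.R := pullback.lift (a ≫ G.i) b h0 ≫ G.c
  have hγs : γ ≫ G.s = b ≫ G.s := G.comp_s _ _ h0
  have hγt : γ ≫ G.t = b ≫ G.s := (G.comp_t _ _ h0).trans (by rw [Category.assoc, G.i_t, has])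
  let z : T ⟶ G.stabilizer := pullback.lift γ (b ≫ G.s) (by
    apply pullback.hom_ext
    · simp only [Category.assoc, j_fst, diag_fst, Category.comp_id, hγt]
    · simp only [Category.assoc, j_snd, diag_snd, Category.comp_id, hγs])
  have hz : z ≫ G.stabilizerToU = (l₁ ≫ G'.s) ≫ f.fU := by
    rw [Grpd.GroupoidScheme.stabilizerToU, pullback.lift_snd]
    simp only [b, Category.assoc, f.comm_s, reassoc_of% hsrc]
  let z' := hpb.lift z (l₁ ≫ G'.s) hz
  let γ' : T ⟶ G'.R := z' ≫ pullback.fst G'.j G'.diag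
  have hz2 : z' ≫ pullback.snd G'.j G'.diag = l₁ ≫ G'.s := hpb.lift_snd _ _ _
  have hγ'R : γ' ≫ f.fR = γ := by
    rw [Category.assoc, ← hg, hpb.lift_fst_assoc]
    exact pullback.lift_fst _ _ _
  have hcond : γ' ≫ G'.j = (l₁ ≫ G'.s) ≫ G'.diag := by
    rw [Category.assoc, pullback.condition, reassoc_of% hz2, Category.assoc]
  have hγ't : γ' ≫ G'.t = l₁ ≫ G'.s := by
    have := congrArg (· ≫ pullback.fst G'.pU G'.pU) hcond
    simpa only [Category.assoc, j_fst, diag_fst, Category.comp_id] using this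
  have hγ's : γ' ≫ G'.s = l₁ ≫ G'.s := by
    have := congrArg (· ≫ pullback.snd G'.pU G'.pU) hcond
    simpa only [Category.assoc, j_snd, diag_snd, Category.comp_id] using this
  let m : T ⟶ G'.R := pullback.lift l₁ γ' hγ't.symm ≫ G'.c
  have hmR : m ≫ f.fR = b := by
    have h1 : a ≫ G.s = (a ≫ G.i) ≫ G.t := by rw [Category.assoc a, G.i_t]
    refine (f.comm_c l₁ γ' hγ't.symm).trans ?_
    refine (lift_congr' (α' := a) (β' := γ) rfl hγ'R _ (h1.trans (G.comp_t _ _ h0).symm)).trans ?_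
    refine (G.assoc a (a ≫ G.i) b h1 h0).symm.trans ?_
    refine (lift_congr' (β' := b) (α' := b ≫ G.t ≫ G.e) ((G.comp_i a).trans
      (by rw [reassoc_of% hat])) rfl _ (by simp [G.e_s])).trans ?_
    exact G.e_comp b
  have hm : m = l₂ := hs.hom_ext hmR ((G'.comp_s _ _ _).trans (hγ's.trans hsrc))
  rw [← hm]
  exact (G'.comp_t _ _ _).symm

section affine

variable [IsAffine G.U] [IsAffine G.R] [IsFinite G.s] [Flat G.s] [LocallyOfFinitePresentation G.s]

variable (G) in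
/-- The map of arrows to pairs of objects over the quotient. -/
noncomputable def rho : G.R ⟶ pullback G.toQuot G.toQuot :=
  pullback.lift G.s G.t (GrpdLib.t_toQuot G).symm

theorem rho_fst : rho G ≫ pullback.fst G.toQuot G.toQuot = G.s := pullback.lift_fst _ _ _

theorem rho_snd : rho G ≫ pullback.snd G.toQuot G.toQuot = G.t := pullback.lift_snd _ _ _

variable [IsFinite G.t] [Flat G.t] [LocallyOfFinitePresentation G.t]

instance surjective_rho : Surjective (rho G) := by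
  refine ⟨fun p => ?_⟩
  let K := (pullback G.toQuot G.toQuot).residueField p
  let z : Spec (CommRingCat.of (AlgebraicClosure K)) ⟶ pullback G.toQuot G.toQuot :=
    Spec.map (CommRingCat.ofHom (algebraMap K (AlgebraicClosure K))) ≫
      (pullback G.toQuot G.toQuot).fromSpecResidueField p
  obtain ⟨r, hrt, hrs⟩ := (((GrpdLib.toQuot_surjective_and_fibres G).2 (AlgebraicClosure K)).2
    (z ≫ pullback.snd _ _) (z ≫ pullback.fst _ _)).1
    (by simp only [Category.assoc, pullback.condition])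
  have hz : r ≫ rho G = z := by
    apply pullback.hom_ext
    · rw [Category.assoc, rho_fst, hrs]
    · rw [Category.assoc, rho_snd, hrt]
  obtain ⟨q⟩ : Nonempty (Spec (CommRingCat.of (AlgebraicClosure K))) := inferInstance
  exact ⟨r q, by rw [← Scheme.Hom.comp_apply, hz, Scheme.Hom.comp_apply]; exact Scheme.fromSpecResidueField_apply p _⟩

instance isFinite_rho : IsFinite (rho G) := by
  have : IsFinite (rho G ≫ pullback.fst G.toQuot G.toQuot) := by rw [rho_fst]; infer_instance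
  exact IsFinite.of_comp (rho G) (pullback.fst G.toQuot G.toQuot)

theorem isQuotientMap_bc_rho (U : Over (pullback G.toQuot G.toQuot)) :
    Topology.IsQuotientMap (pullback.snd (rho G) U.hom).base :=
  (pullback.snd (rho G) U.hom).isClosedMap.isQuotientMap (pullback.snd (rho G) U.hom).continuous
    (pullback.snd (rho G) U.hom).surjective

/-- The transport of points of the source objects along pairs of points with equal image in the quotient. -/
theorem exists_transport [Etale f.fU] (hs : IsPullback f.fR G'.s G.s f.fU) (hstab : StabCart f) :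
    ∃ Φ : pullback f.fU (pullback.fst G.toQuot G.toQuot) ⟶ G'.U,
      Φ ≫ f.fU = pullback.snd _ _ ≫ pullback.snd G.toQuot G.toQuot ∧
      ∀ ⦃T : Scheme.{u}⦄ (l : T ⟶ G'.R),
        pullback.lift (l ≫ G'.s) (l ≫ f.fR ≫ rho G) (by simp only [Category.assoc, rho_fst, f.comm_s]) ≫ Φ =
          l ≫ G'.t := by
  let p := pullback.snd f.fU (pullback.fst G.toQuot G.toQuot)
  let q := pullback.snd f.fU (pullback.snd G.toQuot G.toQuot)
  let v := pullback.fst p (rho G) ≫ pullback.fst f.fU _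
  let r := pullback.snd p (rho G)
  have hvr : r ≫ G.s = v ≫ f.fU := by
    have h1 := congrArg (· ≫ pullback.fst G.toQuot G.toQuot) (pullback.condition (f := p) (g := rho G))
    simp only [p, Category.assoc, rho_fst] at h1
    simp only [v, r, p, Category.assoc, pullback.condition (f := f.fU), h1]
  let L : pullback p (rho G) ⟶ G'.R := hs.lift r v hvr
  have hLR : L ≫ f.fR = r := hs.lift_fst _ _ _
  have hLs : L ≫ G'.s = v := hs.lift_snd _ _ _
  let f' : pullback p (rho G) ⟶ pullback q (rho G) :=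
    pullback.lift (pullback.lift (L ≫ G'.t) (r ≫ rho G)
      (by rw [Category.assoc, Category.assoc, rho_snd, ← f.comm_t, reassoc_of% hLR])) r
      (pullback.lift_snd _ _ _)
  obtain ⟨w, ⟨hw1, hw2⟩, -⟩ := Desc19b.EtaleFull.existsUnique_hom_descend' (rho G)
    (fun U _ => isQuotientMap_bc_rho U) p q f' (pullback.lift_snd _ _ _) (fun {T} a b hab => by
      apply pullback.hom_ext
      · simp only [f', Category.assoc, pullback.lift_fst]
        have h1 : (a ≫ L) ≫ G'.s = (b ≫ L) ≫ G'.s := by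
          simp only [Category.assoc, hLs, v, reassoc_of% hab]
        have h2 : (a ≫ L) ≫ f.fR ≫ G.t = (b ≫ L) ≫ f.fR ≫ G.t := by
          simp only [Category.assoc, reassoc_of% hLR]
          rw [← rho_snd (G := G)]
          simp only [r, ← reassoc_of% (pullback.condition (f := p) (g := rho G)), reassoc_of% hab]
        simpa only [Category.assoc] using same_target f hs hstab (a ≫ L) (b ≫ L) h1 h2
      · simp only [f', Category.assoc, pullback.lift_fst, pullback.lift_snd]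
        simp only [r, ← pullback.condition (f := p) (g := rho G), reassoc_of% hab])
  refine ⟨w ≫ pullback.fst _ _, ?_, fun T l => ?_⟩
  · rw [Category.assoc, pullback.condition, reassoc_of% hw1]
  · let z : T ⟶ pullback p (rho G) := pullback.lift (pullback.lift (l ≫ G'.s) (l ≫ f.fR ≫ rho G)
      (by simp only [Category.assoc, rho_fst, f.comm_s])) (l ≫ f.fR)
      (by rw [pullback.lift_snd, Category.assoc])
    have hz1 : z ≫ pullback.fst p (rho G) = _ := pullback.lift_fst _ _ _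
    have hz2 : z ≫ L = l := by
      apply hs.hom_ext
      · rw [Category.assoc, hLR]; exact pullback.lift_snd _ _ _
      · rw [Category.assoc, hLs]; simp only [v, reassoc_of% hz1, pullback.lift_fst]
    have := congrArg (fun h => z ≫ h ≫ pullback.fst f.fU _) hw2
    simp only [f', Category.assoc, pullback.lift_fst_assoc, pullback.lift_fst, reassoc_of% hz2,
      reassoc_of% hz1] at this
    exact this.symm

theorem exists_cover {T : Scheme.{u}} (x₀ x₁ : T ⟶ G.U) (h : x₀ ≫ G.toQuot = x₁ ≫ G.toQuot) :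
    ∃ (T' : Scheme.{u}) (w : T' ⟶ T) (r : T' ⟶ G.R), Surjective w ∧ r ≫ G.s = w ≫ x₀ ∧ r ≫ G.t = w ≫ x₁ := by
  let l := pullback.lift x₀ x₁ h
  refine ⟨pullback l (rho G), pullback.fst _ _, pullback.snd _ _, inferInstance, ?_, ?_⟩
  · rw [← rho_fst (G := G), ← pullback.condition_assoc, pullback.lift_fst]
  · rw [← rho_snd (G := G), ← pullback.condition_assoc, pullback.lift_snd]

section transport

variable {f} (Φ : pullback f.fU (pullback.fst G.toQuot G.toQuot) ⟶ G'.U)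

/-- The transport of a point. -/
noncomputable def push {T : Scheme.{u}} (v : T ⟶ G'.U) (x₀ x₁ : T ⟶ G.U) (h : x₀ ≫ G.toQuot = x₁ ≫ G.toQuot)
    (hv : v ≫ f.fU = x₀) : T ⟶ G'.U :=
  pullback.lift v (pullback.lift x₀ x₁ h) (hv.trans (pullback.lift_fst _ _ _).symm) ≫ Φ

omit [IsAffine G.R] [IsFinite G.s] [Flat G.s] [LocallyOfFinitePresentation G.s] [IsFinite G.t] [Flat G.t]
  [LocallyOfFinitePresentation G.t] in
theorem push_comp {T T' : Scheme.{u}} (g : T' ⟶ T) {v : T ⟶ G'.U} {x₀ x₁ : T ⟶ G.U}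
    (h : x₀ ≫ G.toQuot = x₁ ≫ G.toQuot) (hv : v ≫ f.fU = x₀) {v' : T' ⟶ G'.U} {x₀' x₁' : T' ⟶ G.U}
    (h' : x₀' ≫ G.toQuot = x₁' ≫ G.toQuot) (hv' : v' ≫ f.fU = x₀')
    (ev : v' = g ≫ v) (e₀ : x₀' = g ≫ x₀) (e₁ : x₁' = g ≫ x₁) :
    push Φ v' x₀' x₁' h' hv' = g ≫ push Φ v x₀ x₁ h hv := by
  subst ev e₀ e₁
  unfold push
  rw [← Category.assoc]
  congr 1
  apply pullback.hom_ext
  · simp
  · apply pullback.hom_ext <;> simp

variable (hΦ₁ : Φ ≫ f.fU = pullback.snd _ _ ≫ pullback.snd G.toQuot G.toQuot)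
  (hΦ₂ : ∀ ⦃T : Scheme.{u}⦄ (l : T ⟶ G'.R),
    pullback.lift (l ≫ G'.s) (l ≫ f.fR ≫ rho G) (by simp only [Category.assoc, rho_fst, f.comm_s]) ≫ Φ =
      l ≫ G'.t)

include hΦ₁ in
theorem push_over {T : Scheme.{u}} (v : T ⟶ G'.U) (x₀ x₁ : T ⟶ G.U) (h : x₀ ≫ G.toQuot = x₁ ≫ G.toQuot)
    (hv : v ≫ f.fU = x₀) : push Φ v x₀ x₁ h hv ≫ f.fU = x₁ := by
  simp [push, hΦ₁]

include hΦ₂ in
theorem push_eq {T : Scheme.{u}} (l : T ⟶ G'.R) {v : T ⟶ G'.U} {x₀ x₁ : T ⟶ G.U}
    (h : x₀ ≫ G.toQuot = x₁ ≫ G.toQuot) (hv : v ≫ f.fU = x₀) (ev : v = l ≫ G'.s)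
    (e₁ : x₁ = l ≫ f.fR ≫ G.t) : push Φ v x₀ x₁ h hv = l ≫ G'.t := by
  subst ev e₁ hv
  rw [← hΦ₂ l]
  unfold push
  congr 1
  apply pullback.hom_ext
  · simp
  · apply pullback.hom_ext
    · simp only [Category.assoc, pullback.lift_snd_assoc, pullback.lift_fst, rho_fst, f.comm_s]
    · simp only [Category.assoc, pullback.lift_snd_assoc, pullback.lift_snd, rho_snd]

include hΦ₂ in
theorem push_self {T : Scheme.{u}} (v : T ⟶ G'.U) (x : T ⟶ G.U) (hv : v ≫ f.fU = x) :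
    push Φ v x x rfl hv = v := by
  refine (push_eq Φ hΦ₂ (v ≫ G'.e) rfl hv (by simp [G'.e_s]) ?_).trans (by simp [G'.e_t])
  simp only [Category.assoc, f.comm_t, reassoc_of% G'.e_t, hv]

variable [Etale f.fU]

include hΦ₁ hΦ₂ in
theorem push_push (hs : IsPullback f.fR G'.s G.s f.fU) {T : Scheme.{u}} (v : T ⟶ G'.U) (x₀ x₁ x₂ : T ⟶ G.U)
    (h₀₁ : x₀ ≫ G.toQuot = x₁ ≫ G.toQuot) (h₁₂ : x₁ ≫ G.toQuot = x₂ ≫ G.toQuot) (hv : v ≫ f.fU = x₀) :
    push Φ (push Φ v x₀ x₁ h₀₁ hv) x₁ x₂ h₁₂ (push_over Φ hΦ₁ v x₀ x₁ h₀₁ hv) =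
      push Φ v x₀ x₂ (h₀₁.trans h₁₂) hv := by
  obtain ⟨T₁, w₁, r₁, hw₁, hr₁s, hr₁t⟩ := exists_cover x₀ x₁ h₀₁
  obtain ⟨T₂, w₂, r₂, hw₂, hr₂s, hr₂t⟩ := exists_cover (w₁ ≫ x₁) (w₁ ≫ x₂)
    (by simp only [Category.assoc, h₁₂])
  let w := w₂ ≫ w₁
  refine eq_of_surjective_comp f.fU _ _ (by rw [push_over Φ hΦ₁, push_over Φ hΦ₁]) w ?_
  let l₁ : T₂ ⟶ G'.R := hs.lift (w₂ ≫ r₁) (w ≫ v) (by simp [w, hr₁s, hv])
  have hl₁R : l₁ ≫ f.fR = w₂ ≫ r₁ := hs.lift_fst _ _ _
  have hl₁s : l₁ ≫ G'.s = w ≫ v := hs.lift_snd _ _ _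
  have e₁ : w ≫ push Φ v x₀ x₁ h₀₁ hv = l₁ ≫ G'.t := by
    rw [← push_comp Φ w h₀₁ hv (v' := w ≫ v) (x₀' := w ≫ x₀) (x₁' := w ≫ x₁)
      (by simp only [Category.assoc, h₀₁]) (by rw [Category.assoc, hv]) rfl rfl rfl]
    exact push_eq Φ hΦ₂ l₁ _ _ hl₁s.symm (by simp [reassoc_of% hl₁R, hr₁t, w])
  let l₂ : T₂ ⟶ G'.R := hs.lift r₂ (l₁ ≫ G'.t)
    (by rw [hr₂s, Category.assoc, ← f.comm_t, reassoc_of% hl₁R, hr₁t])
  have hl₂R : l₂ ≫ f.fR = r₂ := hs.lift_fst _ _ _
  have hl₂s : l₂ ≫ G'.s = l₁ ≫ G'.t := hs.lift_snd _ _ _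
  let m : T₂ ⟶ G'.R := pullback.lift l₂ l₁ hl₂s ≫ G'.c
  have hms : m ≫ G'.s = w ≫ v := (G'.comp_s _ _ hl₂s).trans hl₁s
  have hmt : m ≫ G'.t = l₂ ≫ G'.t := G'.comp_t _ _ hl₂s
  have hl₂t : l₂ ≫ f.fR ≫ G.t = w ≫ x₂ := by rw [reassoc_of% hl₂R, hr₂t, Category.assoc]
  rw [← push_comp Φ w h₁₂ (push_over Φ hΦ₁ v x₀ x₁ h₀₁ hv) (v' := l₁ ≫ G'.t) (x₀' := w ≫ x₁) (x₁' := w ≫ x₂)
      (by simp only [Category.assoc, h₁₂]) (by rw [← e₁, Category.assoc, push_over Φ hΦ₁]) e₁.symm rfl rfl,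
    ← push_comp Φ w (h₀₁.trans h₁₂) hv (v' := w ≫ v) (x₀' := w ≫ x₀) (x₁' := w ≫ x₂)
      (by simp only [Category.assoc, h₀₁, h₁₂]) (by rw [Category.assoc, hv]) rfl rfl rfl,
    push_eq Φ hΦ₂ l₂ _ _ hl₂s.symm hl₂t.symm, push_eq Φ hΦ₂ m _ _ hms.symm ?_, hmt]
  rw [f.comm_t, reassoc_of% hmt, ← f.comm_t, hl₂t]

/-- The descent datum on the source objects. -/
noncomputable def descentDatum (hs : IsPullback f.fR G'.s G.s f.fU) : Desc.SchDD G.toQuot where
  obj := Over.mk f.fU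
  φ T x₀ x₁ h :=
    { toFun := fun v => ⟨push Φ v.1 x₀ x₁ h v.2, push_over Φ hΦ₁ v.1 x₀ x₁ h v.2⟩
      invFun := fun v => ⟨push Φ v.1 x₁ x₀ h.symm v.2, push_over Φ hΦ₁ v.1 x₁ x₀ h.symm v.2⟩
      left_inv := fun v => Subtype.ext ((push_push Φ hΦ₁ hΦ₂ hs v.1 x₀ x₁ x₀ h h.symm v.2).trans
        (push_self Φ hΦ₂ v.1 x₀ v.2))
      right_inv := fun v => Subtype.ext ((push_push Φ hΦ₁ hΦ₂ hs v.1 x₁ x₀ x₁ h.symm h v.2).trans
        (push_self Φ hΦ₂ v.1 x₁ v.2)) }
  φ_natural T T' g x₀ x₁ h h' v v' hv' := push_comp Φ g h v.2 h' v'.2 hv' rfl rfl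
  φ_self T x v := Subtype.ext (push_self Φ hΦ₂ v.1 x v.2)
  φ_comp T x₀ x₁ x₂ h₀₁ h₁₂ v := Subtype.ext (push_push Φ hΦ₁ hΦ₂ hs v.1 x₀ x₁ x₂ h₀₁ h₁₂ v.2)

end transport

end affine

end Groth.Agent.Stk19b.GrpdEt
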